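set_option autoImplicit false
namespace Cfsg.Agent.Lib.Helper6.TCD.J1aL
noncomputable def HL0 (i : Nat) : Nat := Nat.land (Nat.shiftRight 0x801000811000821000831000851000831000821000801000701000741000751000701000751000731000701000751000721000701000741000711000741000731000731000731000741000701000751000731000701000701000741000741000711000701000751000731000741000711000701000741000711000641000651000601000601000601000651000621000631000621000641000601000611000631000601000651000641000611000601000611000601000631000601000631000611000631000651000631000651000611000601000631000641000641000611000601000601000651000631000641000601000601000651000631000631000651000611000601000641000641000631000611000641000651000611000631000601000651000631000601000631000651000641000631000601000651000611000651000631000641000641000601000641000641000611000601000541000511000501000541000531000541000501000511000551000501000541000531000501000531000521000511000551000531000531000531000501000531000511000541000511000501000531000501000541000531000541000511000551000531000531000541000531000511000501000551000521000501000551000541000531000501000531000501000541000501000551000511000531000541000531000541000511000501000541000531000501000551000531000541000511000531000521000501000551000541000511000501000541000531000501000541000511000511000501000541000511000441000411000451000441000421000451000441000411000401000431000401000441000431000401000451000441000421000411000441000431000401000451000431000421000451000441000431000401000451000441000431000401000441000401000431000401000451000431000441000411000401000451000441000341000301000341000331000311000301000351000331000321000301000351000341000331000301000341000301000251000201000251000231000221000211000121000111000101000001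 (Nat.mul 24 (Nat.land i 1023))) 16777215
end Cfsg.Agent.Lib.Helper6.TCD.J1aL
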