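set_option autoImplicit false
namespace Cfsg.Agent.Lib.Helper6.TCD.J1aL
noncomputable def HL1 (i : Nat) : Nat := Nat.land (Nat.shiftRight 0x801000801000611000721000000000000000721000611000000000000000000000711000000000621000000000000000000000000000000000000000000000000000000000000000711000000000811000611000000000000000711000711000000000000000000000000000601000000000000000621000701000711000611000511000000000000000511000501000701000501000000000000000521000721000000000601000621000511000601000000000611000000000000000521000000000521000711000521000701000521000000000611000000000000000000000501000000000000000000000601000000000621000000000611000000000511000601000621000000000621000501000000000000000611000000000601000000000000000701000000000511000000000601000601000811000701000511000601000421000611000000000000000611000000000000000000000421000401000721000601000000000000000711000000000501000701000000000511000611000411000411000000000421000401000000000411000401000501000521000421000401000000000601000601000611000601000000000411000000000000000000000000000000000000000000000000000000000000000000000000000601000521000501000000000711000000000000000501000401000501000621000501000000000000000000000511000000000000000611000000000501000411000701000711000701000000000321000311000000000000000301000811000711000521000000000000000000000000000511000311000301000000000321000301000701000000000000000000000321000421000000000000000000000000000000000000000401000000000000000511000000000421000000000000000311000821000211000201000611000000000221000201000000000301000000000000000000000000000411000000000221000000000121000101000000000311000111000211000001000000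 (Nat.mul 24 (Nat.land i 1023))) 16777215
end Cfsg.Agent.Lib.Helper6.TCD.J1aL
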