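set_option autoImplicit false
namespace Cfsg.Agent.Lib.Helper6.TCD.J1aL
noncomputable def HL2 (i : Nat) : Nat := Nat.land (Nat.shiftRight 0x301000000000000000000000000000000000000000000000000000000000000000000000000000000000000000000000000000000000000000000000000000000000000000000000000000000000000000000000000000000000000000000000000000000000000000000000000000000000000000000000000000000000000000401000000000000000000000000000000000000000000000000000000000000000000000000000000000000000000000000000000000000000000000000000000000000000000000000000000000000000000000000000000000000000000000000000000000000000000000000000000000000000000000000000000000000000000000000000000000000000000000000000000000000000000000000000000000000000000000101000000000000000000000000000000000000000000000000000000000000000000000000000000000000000201000000000000000000000000000000000000000000000000000000000000000000000000000000000000000000000001000000000000 (Nat.mul 24 (Nat.land i 1023))) 16777215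
end Cfsg.Agent.Lib.Helper6.TCD.J1aL
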