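import Cfsg.Agent.Lib.Helper6.TCD.J1a.Par
import Cfsg.Agent.Lib.Helper6.TCD.J1aL.HL0
import Cfsg.Agent.Lib.Helper6.TCD.J1aL.HL1
import Cfsg.Agent.Lib.Helper6.TCD.J1aL.HL2
set_option autoImplicit false
set_option maxRecDepth 100000
namespace Cfsg.Agent.Lib.Helper6.TCD.J1aL
open Cfsg.Agent.Lib.Helper6.TCD.J1a
noncomputable def WL0_0 (p : Nat) : Nat := P0 p
noncomputable def WL0_1 (p : Nat) : Nat := P2 p
noncomputable def WL0_2 (p : Nat) : Nat := P1 p
noncomputable def WL0_3 (p : Nat) : Nat := P4 p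
noncomputable def WL0_4 (p : Nat) : Nat := P3 p
noncomputable def WL0_5 (p : Nat) : Nat := P5 p
/-- the words of level 0 -/
def wsL0 : List (List Nat) := [[0], [2], [1], [4], [3], [5]]
noncomputable def hselL0 (c p : Nat) : Nat := Nat.rec (motive := fun _ => Nat) (WL0_0 p) (fun k0 _ => Nat.rec (motive := fun _ => Nat) (WL0_1 p) (fun k1 _ => Nat.rec (motive := fun _ => Nat) (WL0_2 p) (fun k2 _ => Nat.rec (motive := fun _ => Nat) (WL0_3 p) (fun k3 _ => Nat.rec (motive := fun _ => Nat) (WL0_4 p) (fun k4 _ => WL0_5 p) k3) k2) k1) k0) c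
noncomputable def labL0 (p : Nat) : Nat := Nat.land (HL0 p) 15
noncomputable def rnkL0 (p : Nat) : Nat := Nat.shiftRight (HL0 p) 8
noncomputable def mvL0 (p : Nat) : Nat := hselL0 (Nat.land (Nat.shiftRight (HL0 p) 4) 15) p
noncomputable def WL1_0 (p : Nat) : Nat := P4 p
noncomputable def WL1_1 (p : Nat) : Nat := P3 p
noncomputable def WL1_2 (p : Nat) : Nat := P5 p
/-- the words of level 1 -/
def wsL1 : List (List Nat) := [[4], [3], [5]]
noncomputable def hselL1 (c p : Nat) : Nat := Nat.rec (motive := fun _ => Nat) (WL1_0 p) (fun k0 _ => Nat.rec (motive := fun _ => Nat) (WL1_1 p) (fun k1 _ => WL1_2 p) k0) c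
noncomputable def labL1 (p : Nat) : Nat := Nat.land (HL1 p) 15
noncomputable def rnkL1 (p : Nat) : Nat := Nat.shiftRight (HL1 p) 8
noncomputable def mvL1 (p : Nat) : Nat := hselL1 (Nat.land (Nat.shiftRight (HL1 p) 4) 15) p
noncomputable def WL2_0 (p : Nat) : Nat := P3 (P3 (P5 (P4 (P4 (P4 p)))))
/-- the words of level 2 -/
def wsL2 : List (List Nat) := [[4, 4, 4, 5, 3, 3]]
noncomputable def hselL2 (c p : Nat) : Nat := WL2_0 p
noncomputable def labL2 (p : Nat) : Nat := Nat.land (HL2 p) 15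
noncomputable def rnkL2 (p : Nat) : Nat := Nat.shiftRight (HL2 p) 8
noncomputable def mvL2 (p : Nat) : Nat := hselL2 (Nat.land (Nat.shiftRight (HL2 p) 4) 15) p
end Cfsg.Agent.Lib.Helper6.TCD.J1aL
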